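import Mathlib
import Groth.Agent.Lib.Helper7.GrobFree.Cyc
import Groth.Agent.Lib.Helper7.GrobFree.Transfer

set_option linter.style.haveILetI false
set_option linter.unusedVariables false
set_option linter.unusedSectionVars false
set_option autoImplicit false
set_option backward.isDefEq.respectTransparency.types false
set_option synthInstance.maxHeartbeats 400000
set_option maxHeartbeats 800000

universe u

/-! helper7: ring-level generic flatness and finite presentation for finite families of finite type algebras over a reduced ring -/

open MvPolynomial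

namespace Groth.Agent.Helper7.GrobFree

section Sigma

variable {R : Type*} [CommRing R]

theorem exists_cycGood_sigma_list [IsReduced R] :
    ∀ (L : List (Σ n : ℕ, Ideal (MvPolynomial (Fin n) R))) (g : R), ¬ IsNilpotent g →
      ∃ a : R, ¬ IsNilpotent (g * a) ∧ ∀ J ∈ L, CycGood (g * a) J.2 := by
  intro L
  induction L with
  | nil =>
    intro g hg
    exact ⟨1, by rwa [mul_one], fun J hJ => absurd hJ List.not_mem_nil⟩
  | cons J₀ L ih =>
    intro g hg
    obtain ⟨a, ha, hgood⟩ := ih g hg
    obtain ⟨a', ha', hgood'⟩ :=
      exists_cycGood (MonomialOrder.lex (σ := Fin J₀.1)) J₀.2 (g * a) ha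
    refine ⟨a * a', by rwa [← mul_assoc], fun J hJ => ?_⟩
    rw [← mul_assoc]
    rcases List.mem_cons.mp hJ with rfl | hJ
    · exact hgood'
    · exact (hgood J hJ).mul a'

end Sigma

section RingFlat

variable {R S : Type u} [CommRing R] [CommRing S] [Algebra R S]

/-- flatness over `R` of a localization of `S` away from the image of `f`, when the localized
module is free over `R_f` -/
theorem flat_comp_of_free (f : R)
    (hfree : Module.Free (Localization.Away f) (LocalizedModule (Submonoid.powers f) S))
    (S' : Type u) [CommRing S'] [Algebra S S'] [IsLocalization.Away (algebraMap R S f) S'] :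
    ((algebraMap S S').comp (algebraMap R S)).Flat := by
  letI : Algebra R S' := ((algebraMap S S').comp (algebraMap R S)).toAlgebra
  haveI : IsScalarTower R S S' := IsScalarTower.of_algebraMap_eq (fun _ => rfl)
  haveI : IsLocalization (Algebra.algebraMapSubmonoid S (Submonoid.powers f)) S' := by
    rw [Algebra.algebraMapSubmonoid_powers]
    infer_instance
  have e : LocalizedModule (Submonoid.powers f) S ≃ₗ[R] S' :=
    IsLocalizedModule.iso (Submonoid.powers f) (IsScalarTower.toAlgHom R S S').toLinearMap
  haveI : Module.Flat (Localization.Away f) (LocalizedModule (Submonoid.powers f) S) :=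
    inferInstance
  haveI : Module.Flat R (Localization.Away f) := IsLocalization.flat _ (Submonoid.powers f)
  haveI : Module.Flat R (LocalizedModule (Submonoid.powers f) S) :=
    Module.Flat.trans R (Localization.Away f) _
  exact Module.Flat.of_linearEquiv e.symm

theorem fp_comp_of_awayMap (f : R)
    (hfp : (Localization.awayMap (algebraMap R S) f).FinitePresentation)
    (S' : Type u) [CommRing S'] [Algebra S S'] [IsLocalization.Away (algebraMap R S f) S'] :
    ((algebraMap S S').comp (algebraMap R S)).FinitePresentation := by
  have h1 : (algebraMap R (Localization.Away f)).FinitePresentation := by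
    rw [RingHom.finitePresentation_algebraMap]
    exact IsLocalization.Away.finitePresentation f
  have h2 := hfp.comp h1
  have h3 : (Localization.awayMap (algebraMap R S) f).comp (algebraMap R (Localization.Away f)) =
      (algebraMap S (Localization.Away (algebraMap R S f))).comp (algebraMap R S) :=
    IsLocalization.map_comp _
  rw [h3] at h2
  let e : Localization.Away (algebraMap R S f) ≃ₐ[S] S' :=
    IsLocalization.algEquiv (Submonoid.powers (algebraMap R S f)) _ _
  have h4 : (e.toRingEquiv.toRingHom).FinitePresentation :=
    RingHom.FinitePresentation.of_bijective e.bijective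
  have h5 := h4.comp h2
  have h6 : (e.toRingEquiv.toRingHom).comp
      ((algebraMap S (Localization.Away (algebraMap R S f))).comp (algebraMap R S)) =
      (algebraMap S S').comp (algebraMap R S) := by
    ext r
    exact e.commutes (algebraMap R S r)
  rwa [h6] at h5

end RingFlat

section RingHomForm

theorem flat_fp_of_cycGood_ringHom {R S : Type u} [CommRing R] [CommRing S] {σ : Type*} [Finite σ]
    (π : MvPolynomial σ R →+* S) (hπ : Function.Surjective π) (f : R)
    (h : CycGood f (RingHom.ker π)) (S' : Type u) [CommRing S'] [Algebra S S']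
    [hloc : IsLocalization.Away (π (C f)) S'] :
    ((algebraMap S S').comp (π.comp C)).Flat ∧
      ((algebraMap S S').comp (π.comp C)).FinitePresentation := by
  letI : Algebra R S := (π.comp C).toAlgebra
  let π' : MvPolynomial σ R →ₐ[R] S := { π with commutes' := fun r => rfl }
  have hπ' : Function.Surjective π' := hπ
  have h' : CycGood f (RingHom.ker π') := h
  haveI : IsLocalization.Away (algebraMap R S f) S' := hloc
  exact ⟨flat_comp_of_free f (free_of_cycGood_ker π' hπ' f h') S',
    fp_comp_of_awayMap f (awayMap_finitePresentation π' f hπ' h') S'⟩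

theorem exists_pres {R S : Type u} [CommRing R] [CommRing S] (φ : R →+* S) (hφ : φ.FiniteType) :
    ∃ (n : ℕ) (π : MvPolynomial (Fin n) R →+* S), π.comp C = φ ∧ Function.Surjective π := by
  letI : Algebra R S := φ.toAlgebra
  have hft : Algebra.FiniteType R S := hφ
  obtain ⟨n, π, hπ⟩ := Algebra.FiniteType.iff_quotient_mvPolynomial''.mp hft
  refine ⟨n, π.toRingHom, ?_, hπ⟩
  ext r
  exact π.commutes r

/-- a finite family of finite type algebras over a reduced ring becomes flat and finitely
presented after inverting a non-nilpotent element -/
theorem exists_flat_fp_family (R : Type u) [CommRing R] [IsReduced R] {ι : Type*} [Finite ι]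
    (S : ι → Type u) [∀ i, CommRing (S i)] (φ : ∀ i, R →+* S i) (hφ : ∀ i, (φ i).FiniteType)
    (g : R) (hg : ¬ IsNilpotent g) :
    ∃ a : R, ¬ IsNilpotent (g * a) ∧ ∀ (i : ι) (S' : Type u) [CommRing S'] [Algebra (S i) S']
      [IsLocalization.Away (φ i (g * a)) S'],
      ((algebraMap (S i) S').comp (φ i)).Flat ∧
        ((algebraMap (S i) S').comp (φ i)).FinitePresentation := by
  classical
  haveI := Fintype.ofFinite ι
  choose n π hπC hπs using fun i => exists_pres (φ i) (hφ i)
  obtain rfl : φ = fun i => (π i).comp C := funext (fun i => (hπC i).symm)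
  obtain ⟨a, ha, hgood⟩ := exists_cycGood_sigma_list
    ((Finset.univ : Finset ι).toList.map
      (fun i => (⟨n i, RingHom.ker (π i)⟩ : Σ n : ℕ, Ideal (MvPolynomial (Fin n) R)))) g hg
  refine ⟨a, ha, fun i S' _ _ hloc => ?_⟩
  have hi := hgood _ (List.mem_map_of_mem (f := fun i =>
    (⟨n i, RingHom.ker (π i)⟩ : Σ n : ℕ, Ideal (MvPolynomial (Fin n) R)))
    (Finset.mem_toList.mpr (Finset.mem_univ i)))
  haveI : IsLocalization.Away ((π i) (C (g * a))) S' := hloc
  exact flat_fp_of_cycGood_ringHom (π i) (hπs i) (g * a) hi S'

end RingHomForm

end Groth.Agent.Helper7.GrobFree
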