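import Mathlib
import Groth.Agent.Lib.Helper7.GrobFree.RingFlat

set_option linter.style.haveILetI false
set_option linter.unusedVariables false
set_option linter.unusedSectionVars false
set_option autoImplicit false
set_option backward.isDefEq.respectTransparency.types false
set_option synthInstance.maxHeartbeats 400000
set_option maxHeartbeats 800000

universe u

/-! helper7: generic flatness over a reduced base scheme: a finite type quasi-compact morphism is flat and locally of finite presentation over a dense open -/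

open AlgebraicGeometry CategoryTheory TopologicalSpace

namespace Groth.Agent.Helper7.GrobFree

section Restrict

theorem comp_openImm_of_exists_appLE (P : MorphismProperty Scheme.{u})
    {Q : ∀ {R S : Type u} [CommRing R] [CommRing S], (R →+* S) → Prop}
    [HasRingHomProperty P Q]
    (hQ : RingHom.StableUnderCompositionWithLocalizationAwaySource Q)
    {X' X S : Scheme.{u}} (ι : X' ⟶ X) [IsOpenImmersion ι] (f : X ⟶ S)
    (H : ∀ x' : X', ∃ (U : S.affineOpens) (V : X.affineOpens) (_ : ι x' ∈ V.1)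
      (e : V.1 ≤ f ⁻¹ᵁ U.1) (_ : V.1 ≤ ι.opensRange), Q (f.appLE U.1 V.1 e).hom) :
    P (ι ≫ f) := by
  rw [HasRingHomProperty.iff_exists_appLE (P := P) hQ]
  intro x'
  obtain ⟨U, V, hxV, e, hrange, hQV⟩ := H x'
  have hVaff : IsAffineOpen (ι ⁻¹ᵁ V.1) := V.2.preimage_of_isOpenImmersion ι hrange
  have e' : ι ⁻¹ᵁ V.1 ≤ (ι ≫ f) ⁻¹ᵁ U.1 := fun y hy => e hy
  refine ⟨U, ⟨_, hVaff⟩, hxV, e', ?_⟩
  have h1 : (ι ≫ f).appLE U.1 (ι ⁻¹ᵁ V.1) e' =
      f.appLE U.1 V.1 e ≫ ι.appLE V.1 (ι ⁻¹ᵁ V.1) le_rfl :=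
    (Scheme.Hom.appLE_comp_appLE ι f U.1 V.1 (ι ⁻¹ᵁ V.1) e le_rfl).symm
  haveI : IsIso (ι.app V.1) := ι.isIso_app V.1 hrange
  haveI : IsIso (ι.appLE V.1 (ι ⁻¹ᵁ V.1) le_rfl) := by
    rw [← Scheme.Hom.app_eq_appLE]
    infer_instance
  rw [h1, CommRingCat.hom_comp,
    (HasRingHomProperty.isLocal_ringHomProperty P).respectsIso.cancel_right_isIso]
  exact hQV

/-- a property of morphisms given by a ring hom property holds for the restriction over an open
`D` of the target as soon as it holds on affine charts around the points over `D`. -/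
theorem morphismRestrict_of_exists_appLE (P : MorphismProperty Scheme.{u})
    {Q : ∀ {R S : Type u} [CommRing R] [CommRing S], (R →+* S) → Prop}
    [HasRingHomProperty P Q] [P.IsStableUnderBaseChange]
    (hQ : RingHom.StableUnderCompositionWithLocalizationAwaySource Q)
    {X S : Scheme.{u}} (f : X ⟶ S) (D : S.Opens)
    (H : ∀ x : X, f x ∈ D → ∃ (U : S.affineOpens) (V : X.affineOpens) (_ : x ∈ V.1)
      (e : V.1 ≤ f ⁻¹ᵁ U.1) (_ : V.1 ≤ f ⁻¹ᵁ D), Q (f.appLE U.1 V.1 e).hom) :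
    P (f ∣_ D) := by
  have hcomp : P ((f ⁻¹ᵁ D).ι ≫ f) := by
    apply comp_openImm_of_exists_appLE P hQ
    intro x'
    obtain ⟨U, V, hxV, e, hVD, hQV⟩ := H x'.1 x'.2
    refine ⟨U, V, hxV, e, ?_, hQV⟩
    rw [Scheme.Opens.opensRange_ι]; exact hVD
  have hres : (f ∣_ D) ≫ D.ι = (f ⁻¹ᵁ D).ι ≫ f := morphismRestrict_ι f D
  rw [← hres] at hcomp
  exact MorphismProperty.of_postcomp (W := P) (W' := @IsOpenImmersion) (f ∣_ D) D.ι
    inferInstance hcomp

end Restrict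

section Main

variable {X S : Scheme.{u}} (f : X ⟶ S)

/-- good points of the base -/
def GoodPt (s : S) : Prop :=
  ∃ (V : S.affineOpens) (a : Γ(S, V.1)), s ∈ S.basicOpen a ∧
    ∀ x : X, f x ∈ S.basicOpen a → ∃ (W : X.affineOpens) (_ : x ∈ W.1) (e : W.1 ≤ f ⁻¹ᵁ V.1)
      (_ : W.1 ≤ f ⁻¹ᵁ (S.basicOpen a)),
      (f.appLE V.1 W.1 e).hom.Flat ∧ (f.appLE V.1 W.1 e).hom.FinitePresentation

theorem isOpen_goodPt : IsOpen {s : S | GoodPt f s} := by
  rw [isOpen_iff_forall_mem_open]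
  rintro s ⟨V, a, hs, H⟩
  exact ⟨S.basicOpen a, fun s' hs' => ⟨V, a, hs', H⟩, (S.basicOpen a).isOpen, hs⟩

/-- the good locus -/
def goodOpen : S.Opens := ⟨{s : S | GoodPt f s}, isOpen_goodPt f⟩

theorem hQflat : RingHom.StableUnderCompositionWithLocalizationAwaySource
    (fun {R S : Type u} [CommRing R] [CommRing S] => (RingHom.Flat : (R →+* S) → Prop)) := by
  intro R S T _ _ _ _ r _ g hg
  exact RingHom.Flat.comp (RingHom.Flat.holdsForLocalizationAway S r) hg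

theorem flat_restrict_goodOpen : Flat (f ∣_ goodOpen f) := by
  apply morphismRestrict_of_exists_appLE @Flat hQflat f
  intro x hx
  obtain ⟨V, a, hs, H⟩ := hx
  obtain ⟨W, hxW, e, hWD, hfl, hfp⟩ := H x hs
  refine ⟨V, W, hxW, e, ?_, hfl⟩
  intro y hy
  exact ⟨V, a, hWD hy, H⟩

theorem lfp_restrict_goodOpen : LocallyOfFinitePresentation (f ∣_ goodOpen f) := by
  apply morphismRestrict_of_exists_appLE @LocallyOfFinitePresentation
    (RingHom.finitePresentation_stableUnderComposition.stableUnderCompositionWithLocalizationAway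
      RingHom.finitePresentation_holdsForLocalizationAway).left f
  intro x hx
  obtain ⟨V, a, hs, H⟩ := hx
  obtain ⟨W, hxW, e, hWD, hfl, hfp⟩ := H x hs
  refine ⟨V, W, hxW, e, ?_, hfp⟩
  intro y hy
  exact ⟨V, a, hWD hy, H⟩

theorem dense_goodOpen [IsReduced S] [LocallyOfFiniteType f] [QuasiCompact f] :
    Dense (goodOpen f : Set S) := by
  rw [dense_iff_inter_open]
  rintro O hO ⟨s, hs⟩
  obtain ⟨_, ⟨V, hV, rfl⟩, hsV, hVO⟩ := S.isBasis_affineOpens.exists_subset_of_mem_open hs hO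
  haveI : Nonempty V := ⟨⟨s, hsV⟩⟩
  haveI : Nontrivial Γ(S, V) := inferInstance
  -- cover the preimage by finitely many affine opens
  have hcomp : IsCompact (f ⁻¹ᵁ V : Set X) := f.isCompact_preimage hV.isCompact
  obtain ⟨t, ht, hcov⟩ := isCompact_iff_finite_and_eq_biUnion_affineOpens.mp hcomp
  haveI : Finite t := ht.to_subtype
  have hle : ∀ i : t, i.1.1 ≤ f ⁻¹ᵁ V := by
    intro i
    rw [hcov]
    exact le_iSup₂ (f := fun (j : X.affineOpens) (_ : j ∈ t) => (j : X.Opens)) i.1 i.2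
  obtain ⟨a, ha, hgood⟩ := exists_flat_fp_family Γ(S, V) (fun i : t => Γ(X, i.1.1))
    (fun i => (f.appLE V i.1.1 (hle i)).hom)
    (fun i => f.finiteType_appLE hV i.1.2 (hle i)) 1 not_isNilpotent_one
  rw [one_mul] at ha hgood
  have ha0 : a ≠ 0 := fun h0 => ha (h0 ▸ IsNilpotent.zero)
  have hne : S.basicOpen a ≠ ⊥ := fun h => ha0 ((basicOpen_eq_bot_iff a).mp h)
  obtain ⟨s', hs'⟩ : ∃ s', s' ∈ S.basicOpen a := by
    by_contra hcon
    push Not at hcon
    exact hne (Opens.ext (Set.eq_empty_of_forall_notMem hcon))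
  refine ⟨s', hVO (S.basicOpen_le a hs'), ?_⟩
  refine ⟨⟨V, hV⟩, a, hs', fun x hx => ?_⟩
  have hxV : x ∈ f ⁻¹ᵁ V := S.basicOpen_le a hx
  rw [hcov] at hxV
  obtain ⟨i, hi, hxi⟩ : ∃ i ∈ t, x ∈ (i : X.Opens) := by
    simpa [Opens.mem_iSup] using hxV
  set φ := f.appLE V i.1 (hle ⟨i, hi⟩) with hφ
  have hWeq : X.basicOpen (φ.hom a) = i.1 ⊓ f ⁻¹ᵁ (S.basicOpen a) :=
    Scheme.basicOpen_appLE f i.1 V (hle ⟨i, hi⟩) a
  have hW : IsAffineOpen (X.basicOpen (φ.hom a)) := i.2.basicOpen _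
  have hWi : X.basicOpen (φ.hom a) ≤ i.1 := X.basicOpen_le _
  have e : X.basicOpen (φ.hom a) ≤ f ⁻¹ᵁ V := hWi.trans (hle ⟨i, hi⟩)
  refine ⟨⟨_, hW⟩, ?_, e, ?_, ?_⟩
  · have h0 : x ∈ X.basicOpen (φ.hom a) := by rw [hWeq]; exact ⟨hxi, hx⟩
    exact h0
  · have h0 : X.basicOpen (φ.hom a) ≤ f ⁻¹ᵁ (S.basicOpen a) := by rw [hWeq]; exact inf_le_right
    exact h0
  · haveI : IsLocalization.Away (φ.hom a) Γ(X, X.basicOpen (φ.hom a)) :=
      i.2.isLocalization_basicOpen (φ.hom a)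
    have h1 := hgood ⟨i, hi⟩ Γ(X, X.basicOpen (φ.hom a))
    have h2 : f.appLE V (X.basicOpen (φ.hom a)) e =
        φ ≫ X.presheaf.map (homOfLE hWi).op :=
      (Scheme.Hom.appLE_map f (hle ⟨i, hi⟩) (homOfLE hWi).op).symm
    rw [h2, CommRingCat.hom_comp]
    exact h1

theorem generic_flatness_reduced [IsReduced S] [LocallyOfFiniteType f] [QuasiCompact f] :
    ∃ U : S.Opens, Dense (U : Set ↑S) ∧ Flat (f ∣_ U) ∧ LocallyOfFinitePresentation (f ∣_ U) :=
  ⟨goodOpen f, dense_goodOpen f, flat_restrict_goodOpen f, lfp_restrict_goodOpen f⟩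

end Main

end Groth.Agent.Helper7.GrobFree
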